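import Cfsg.Agent.H322.Odm.BCent
import Cfsg.Agent.H979.OddB
import Cfsg.Agent.H648.Loc.RowB
import Cfsg.Agent.H729.RealTh
import Cfsg.Agent.H800.Sp.B
import Cfsg.Agent.NotCT.Orders

/-!
# S4785: the row of the Baby Monster (helper322, task 3130)

`r = 19`: the base check puts `7` into the simple group at the top, non-adjacency of `7` and `13` the prime `13`; the
survivors of order divisible by `7`, `13`, `19` have a wrong `2`-part, as `32` does not divide `|N(⟨x⟩)|`, `x` of order
19.
-/

set_option autoImplicit false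
set_option maxRecDepth 100000

open Subgroup

namespace Cfsg.Agent.H322.Odm

open Cfsg Cfsg.Agent.OrdDiv Cfsg.Agent.H453.OddM Cfsg.Agent.H257.El Cfsg.Agent.H217.Odm

universe u

/-- the order of the Baby Monster -/
abbrev nB : ℕ := 4154781481226426191177580544000000

/-- its prime factors -/
abbrev lB : List (ℕ × ℕ) :=
  [(2, 41), (3, 13), (5, 6), (7, 2), (11, 1), (13, 1), (17, 1), (19, 1), (23, 1), (31, 1), (47, 1)]

theorem chkB : chkBase nB lB 19 [7] = true := by decide +kernel

theorem chkSB : chkS nB lB 19 4 [7, 13] = true := by decide +kernel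

theorem nB_lt : nB < 2 ^ 300 :=
  (show nB < 2 ^ 200 by norm_num).trans_le (Nat.pow_le_pow_right (by norm_num) (by norm_num))

theorem card_norm_congr {G H : Type*} [Group G] [Group H] (e : G ≃* H) (x : G) :
    Nat.card (normalizer ((zpowers x : Subgroup G) : Set G)) =
      Nat.card (normalizer ((zpowers (e x) : Subgroup H) : Set H)) := by
  have h1 : zpowers (e x) = (zpowers x).map e.toMonoidHom := (MonoidHom.map_zpowers e.toMonoidHom x).symm
  rw [h1, ← Subgroup.map_equiv_normalizer_eq, Subgroup.card_map_of_injective e.injective]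

theorem real_congr {G H : Type*} [Group G] [Group H] (f : G →* H) (hf : Function.Injective f) {v : ℕ}
    (h : RealP G v) : RealP H v := by
  obtain ⟨x, hx, hr⟩ := h
  exact ⟨f x, by rw [orderOf_injective f hf, hx], hr.map f⟩

theorem real13 : RealP Spor.BabyMonster 13 := by
  obtain ⟨⟨x, hx⟩, hc, -⟩ := H648.Loc.b_main
  obtain ⟨g, hg⟩ := isConj_iff.1 (hc x x⁻¹ hx (by rw [orderOf_inv, hx]))
  exact ⟨x, hx, g, hg⟩

theorem real19 : RealP Spor.BabyMonster 19 := by
  obtain ⟨S, ⟨e⟩⟩ := H800.Sp.B.exists_th_B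
  have h1 : H729.RealTh.ev H729.RealTh.v1 ^ 2 = 1 := by
    rw [pow_two]; exact H729.RealTh.ev_eq_one H729.RealTh.v1_sq
  have h2 : H729.RealTh.ev H729.RealTh.v2 ^ 2 = 1 := by
    rw [pow_two]; exact H729.RealTh.ev_eq_one H729.RealTh.v2_sq
  have h3 : orderOf (H729.RealTh.ev H729.RealTh.v1 * H729.RealTh.ev H729.RealTh.v2) = 19 :=
    Cfsg.Agent.Th.Simple19.order19 Cfsg.Agent.Th.Main1700.rho_injective H729.RealTh.v_19 H729.RealTh.v_ne
  have h4 : RealP Spor.Th 19 := ⟨_, h3, IsReal.of_mul h1 h2⟩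
  exact real_congr (S.subtype.comp e.symm.toMonoidHom) (S.subtype_injective.comp e.symm.injective) h4

theorem real7 : RealP Spor.BabyMonster 7 := by
  obtain ⟨x, g, hx, hg⟩ := H800.Sp.B.hasReal (G := Spor.BabyMonster) ⟨MulEquiv.refl _⟩
  exact ⟨x, hx, g, hg⟩

/-- **The row of the Baby Monster** -/
theorem row (tab : Cfsg.Agent.OrdDiv.OrderTable.{u}) (known : Cfsg.Agent.H257.El.Known.{u}) {T : Type u} [Group T]
    (h : Cfsg.Spor.IsoB T) : Cfsg.Agent.H453.OddM.Row T := by
  have hc := NotCT.Orders.b h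
  have : Finite T := Nat.finite_of_card_ne_zero (by rw [hc]; norm_num)
  have hno : ∀ q ∈ [11, 13, 19, 23, 31, 47], q.Prime → ∀ z : T, orderOf z ≠ q * 7 := fun q hq hqp =>
    noOrd_of_noComm hqp (by norm_num) fun x y hx hy hxy => H979.OddB.nadj7 h hq hy hx hxy.symm
  obtain ⟨e⟩ := h
  have hr : ∀ v, RealP Spor.BabyMonster v → RealP T v := fun v =>
    real_congr e.symm.toMonoidHom e.symm.injective
  refine row_of_bound (r := 19) (s₁ := 7) (s₂ := 13) (k := 4) (l := lB) tab known (n := nB) hc nB_lt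
    (by norm_num) (by norm_num) (hr _ real19) (fun x hx => ?_) (by norm_num) (hr _ real7)
    (hno 19 (by simp) (by norm_num)) (by norm_num) (hr _ real13) (by norm_num) (hno 13 (by simp) (by norm_num))
    (by norm_num) (fun b hb hb' => ?_) chkB chkSB
  · rw [card_norm_congr e x]
    exact not_dvd_norm (by rw [MulEquiv.orderOf_eq, hx])
  · have h2 : b ≤ 2 := by
      by_contra hcon
      have h3 := (pow_dvd_pow 7 (show 3 ≤ b by omega)).trans hb'
      norm_num at h3
    interval_cases b <;> norm_num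

end Cfsg.Agent.H322.Odm
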