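import Cfsg.Agent.H322.Odm.Gen
import Cfsg.Agent.H149.Sp.Baby
import Cfsg.Agent.H378.TwRows
import Cfsg.Agent.H648.Loc.NNE6

/-!
# Elements of order 19 of the Baby Monster (helper322, task 3130)

* `cls` : the involutions commuting with an element of order 19: transpositions, or products of two commuting
  transpositions;
* `card_dvd` : `|C(t) ∩ C(x)|` divides `4 · 57`, `t` a transposition, `x` of order 19;
* `not_dvd_cent` : `16` does not divide `|C(x)|`.
-/

set_option autoImplicit false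
set_option maxRecDepth 100000

open Subgroup

namespace Cfsg.Agent.H322.Odm

open Cfsg.Agent.H393.Iso Cfsg.Agent.H163.PG
open Cfsg Cfsg.Lie Cfsg.Agent.Bimonster Cfsg.Agent.BabyU Cfsg.Agent.TwoESix.Cover
open Cfsg.Agent.MonsterX.KSide Cfsg.Agent.MonsterX.KLift Cfsg.Agent.MonsterX.KModel
open Cfsg.Agent.MonsterX.Model Cfsg.Agent.MonsterX.MainPack Cfsg.Agent.MonsterX.MainSimple
open Cfsg.Agent.MonsterX.MainBasic Cfsg.Agent.MonsterU.Assembly Cfsg.Agent.MonsterN Cfsg.Agent.MonsterN.Lit
open Cfsg.Agent.MonsterN.LitInst Cfsg.Agent.MonsterU.Lam2 Cfsg.Agent.MonsterU.TwoCls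
open Cfsg.Agent.BabyComp Cfsg.Agent.BabyComp.Main Cfsg.Agent.BabyComp.BaseTwo Cfsg.Agent.R01.Lifts

/-- a transposition -/
noncomputable abbrev t1 : Spor.BabyMonster := PresentedGroup.of Spor.BabyMonster.Gen.t1

/-- **the involutions commuting with an element of order 19** -/
theorem cls {x u : Spor.BabyMonster} (hx : orderOf x = 19) (hu : orderOf u = 2) (hxu : x * u = u * x) :
    IsConj t1 u ∨ ∃ d, IsConj t1 d ∧ x * d = d * x ∧
      ∀ g, g * u = u * g → g * d * g⁻¹ = d ∨ g * d * g⁻¹ = u * d := by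
  have hp : Nat.Prime 19 := by norm_num
  have hp2 : 19 ≠ 2 := by norm_num
  have h2' : ¬ 19 ∣ 2 ^ 25 * 4157776806543360000 := by norm_num
  refine CTwoTab.BInst.elim ?_
  intro K _ _ hK hF _ _ _ _ q y h π f₁ f₂ f₃ f₄ M₁' hq h10 DK Fc hz hcz hcd hL hc5 big hq5 hcard Bs' hr
  obtain ⟨M₁, B2⟩ := BaseTwo.exists_base2 hq5
  have Bs : Base (q (y 5)) M₁ := B2.toBase
  have hcz' := card_cz CTwoTab.BInst.all
  rw [← hz] at hcz'
  have hnz := fun (x w : _) => false_of_isConj (p := 19) (by rw [hcz']; exact h2') (x := x) (d := w)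
  -- the involutions of `M₁`
  have key : ∀ x u : Spor.BabyMonster, orderOf x = 19 → u * u = 1 → u ≠ 1 → x * u = u * x →
      (∃ h : Spor.BabyMonster, h⁻¹ * u * h ∈ M₁) → IsConj t1 u := by
    rintro x u hx huu hu1 hxu ⟨g, hg⟩
    obtain ⟨k, hk, hqk⟩ := M_le hq h10 big Bs _ hg
    have hkk : k * k = 1 := by
      refine lift_sq (Cfsg.Agent.TwoESix.LeviG.rootFacts hK hF) (KeyInst.extra hF) (Cfsg.Agent.TwoESix.RootsInst.roots K hF)
        hq h10 DK hk ?_
      rw [hqk]
      calc g⁻¹ * u * g * (g⁻¹ * u * g) = g⁻¹ * (u * u) * g := by group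
        _ = 1 := by rw [huu]; group
    have hqk1 : q k ≠ 1 := by
      intro e
      apply hu1
      rw [hqk] at e
      calc u = g * (g⁻¹ * u * g) * g⁻¹ := by group
        _ = 1 := by rw [e]; group
    have hk1 : k ≠ 1 := fun e => hqk1 (by rw [e, map_one])
    have hkτ : k ≠ tb _ _ := fun e => hqk1 (by rw [e, hq.mapz])
    obtain ⟨b, hb, hb47⟩ := exists_lift hq hp hp2 ((orderOf_conj' g x).trans hx)
    have hbk : b * k = k * b := by
      refine lift_comm hq hp hp2 hb47 ?_
      rw [hb, hqk]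
      calc g⁻¹ * x * g * (g⁻¹ * u * g) = g⁻¹ * (x * u) * g := by group
        _ = g⁻¹ * (u * x) * g := by rw [hxu]
        _ = _ := by group
    have hbt : b * tb _ _ = tb _ _ * b := hq.comm b
    have hbO : orderOf ((BB _ _).subtype b) = 19 := by
      rw [← hb47]
      exact orderOf_injective _ (Subgroup.subtype_injective _) b
    have hcomm : ∀ w : BB Cfsg.Agent.MonsterX.KDone.K Cfsg.Agent.MonsterX.KLinkInst.x₀, b * w = w * b →
        (BB _ _).subtype b * (BB _ _).subtype w = (BB _ _).subtype w * (BB _ _).subtype b := fun w hw => by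
      rw [← map_mul, hw, map_mul]
    rcases Fc.classes k hkk hk1 hkτ with h1 | h1 | h1 | h1
    · have h2 : IsConj (q (y 5)) (q k) := q.map_isConj (hc5.symm.trans h1)
      refine (hq5.symm.trans h2).trans ?_
      rw [hqk]
      exact isConj_iff.2 ⟨g, by group⟩
    · refine (hnz _ _ hbO (hcz.trans ((BB _ _).subtype.map_isConj (FusionType.conj_mul_t Fc.cen h1)))
        (hcomm _ ?_)).elim
      rw [← mul_assoc, hbt, mul_assoc, hbk, ← mul_assoc]
    · exact (hnz _ _ hbO (hcz.trans ((BB _ _).subtype.map_isConj h1)) (hcomm _ hbk)).elim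
    · exact (hnz _ _ hbO (hcd.trans ((BB _ _).subtype.map_isConj h1)) (hcomm _ hbk)).elim
  have huu := sq_of_two hu
  have hu1 := ne_one_of_two hu
  rcases Bs.classes u huu hu1 with hg | ⟨d, hd, hc, hud⟩
  · exact Or.inl (key x u hx huu hu1 hxu hg)
  · obtain ⟨g, rfl⟩ := isConj_iff.1 hd
    have htt : q (y 5) * q (y 5) = 1 := by rw [← map_mul, h.sq 5 (by norm_num) (by norm_num), map_one]
    have htM : q (y 5) ∈ M₁ := by
      rw [BaseTwo.Base.eq_map hq h10 big Bs]
      exact ⟨y 5, (mem_KK' hq h10).2 (by group), rfl⟩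
    -- `e = g⁻¹ * u * g * t`
    have he1 : IsConj (q (y 5)) (g⁻¹ * u * g * q (y 5)) := by
      refine hud.trans (isConj_iff.2 ⟨g⁻¹, ?_⟩)
      group
    have hut : g⁻¹ * u * g * q (y 5) = q (y 5) * (g⁻¹ * u * g) := by
      calc g⁻¹ * u * g * q (y 5) = g⁻¹ * (u * (g * q (y 5) * g⁻¹)) * g := by group
        _ = g⁻¹ * ((g * q (y 5) * g⁻¹) * u) * g := by rw [hc]
        _ = _ := by group
    have he2 : q (y 5) * (g⁻¹ * u * g * q (y 5)) = g⁻¹ * u * g := by
      rw [hut, ← mul_assoc, htt, one_mul]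
    have he3 : g⁻¹ * u * g * q (y 5) * q (y 5) = g⁻¹ * u * g := by
      rw [mul_assoc, htt, mul_one]
    by_cases heM : g⁻¹ * u * g * q (y 5) ∈ M₁
    · refine Or.inl (key x u hx huu hu1 hxu ⟨g, ?_⟩)
      rw [← he3]
      exact M₁.mul_mem heM htM
    · right
      refine ⟨g * q (y 5) * g⁻¹, hq5.symm.trans (isConj_iff.2 ⟨g, rfl⟩), ?_, ?_⟩
      · have h1 := B2.comm_of_odd (g⁻¹ * u * g * q (y 5)) (g⁻¹ * x * g) he1 (by rw [he2, he3]) heM ?_ ?_
        · calc x * (g * q (y 5) * g⁻¹) = g * (g⁻¹ * x * g * q (y 5)) * g⁻¹ := by group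
            _ = g * (q (y 5) * (g⁻¹ * x * g)) * g⁻¹ := by rw [h1]
            _ = _ := by group
        · rw [orderOf_conj', hx]; decide
        · rw [he2]
          calc g⁻¹ * x * g * (g⁻¹ * u * g) = g⁻¹ * (x * u) * g := by group
            _ = g⁻¹ * (u * x) * g := by rw [hxu]
            _ = _ := by group
      · intro k hk
        -- `f = (g⁻¹ k g) t (g⁻¹ k g)⁻¹`
        have hku : g⁻¹ * k * g * (g⁻¹ * u * g) = g⁻¹ * u * g * (g⁻¹ * k * g) := by
          calc g⁻¹ * k * g * (g⁻¹ * u * g) = g⁻¹ * (k * u) * g := by group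
            _ = g⁻¹ * (u * k) * g := by rw [hk]
            _ = _ := by group
        set u' := g⁻¹ * u * g with hu'
        set k' := g⁻¹ * k * g with hk'
        set t := q (y 5) with ht
        have hku' : k'⁻¹ * u' = u' * k'⁻¹ := by
          calc k'⁻¹ * u' = k'⁻¹ * (u' * k') * k'⁻¹ := by group
            _ = k'⁻¹ * (k' * u') * k'⁻¹ := by rw [hku]
            _ = u' * k'⁻¹ := by group
        have h2 := B2.uniq (u' * t) (k' * t * k'⁻¹) he1 (by rw [he2, he3]) heM (isConj_iff.2 ⟨k', rfl⟩) ?_ ?_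
        · rcases h2 with h2 | h2
          · left
            calc k * (g * t * g⁻¹) * k⁻¹ = g * (k' * t * k'⁻¹) * g⁻¹ := by rw [hk']; group
              _ = g * t * g⁻¹ := by rw [h2]
          · right
            calc k * (g * t * g⁻¹) * k⁻¹ = g * (k' * t * k'⁻¹) * g⁻¹ := by rw [hk']; group
              _ = g * (u' * t) * g⁻¹ := by rw [h2]
              _ = u * (g * t * g⁻¹) := by rw [hu']; group
        · rw [he2]
          calc k' * t * k'⁻¹ * u' = k' * t * (k'⁻¹ * u') := by group
            _ = k' * (t * u') * k'⁻¹ := by rw [hku']; group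
            _ = k' * (u' * t) * k'⁻¹ := by rw [hut]
            _ = (k' * u') * t * k'⁻¹ := by group
            _ = u' * (k' * t * k'⁻¹) := by rw [hku]; group
        · rw [he2]
          have h3 : k' * t * k'⁻¹ * u' = k' * (u' * t) * k'⁻¹ := by
            calc k' * t * k'⁻¹ * u' = k' * t * (k'⁻¹ * u') := by group
              _ = k' * (t * u') * k'⁻¹ := by rw [hku']; group
              _ = k' * (u' * t) * k'⁻¹ := by rw [hut]
          rw [h3]
          exact he1.trans (isConj_iff.2 ⟨k', rfl⟩)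

/-! ### the centralizers in `2·²E₆(2):2` -/

/-- conjugation -/
theorem card_inf_conj {G : Type*} [Group G] (g a b : G) :
    Nat.card ↥(centralizer ({g * a * g⁻¹} : Set G) ⊓ centralizer ({g * b * g⁻¹} : Set G) : Subgroup G) =
      Nat.card ↥(centralizer ({a} : Set G) ⊓ centralizer ({b} : Set G) : Subgroup G) := by
  have h : (centralizer ({g * a * g⁻¹} : Set G) ⊓ centralizer ({g * b * g⁻¹} : Set G) : Subgroup G) =
      (centralizer ({a} : Set G) ⊓ centralizer ({b} : Set G) : Subgroup G).map (MulAut.conj g).toMonoidHom := by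
    ext w
    have hc : ∀ c : G, w * (g * c * g⁻¹) = g * c * g⁻¹ * w ↔ g⁻¹ * w * g * c = c * (g⁻¹ * w * g) := by
      intro c
      constructor
      · intro h
        calc g⁻¹ * w * g * c = g⁻¹ * (w * (g * c * g⁻¹)) * g := by group
          _ = g⁻¹ * (g * c * g⁻¹ * w) * g := by rw [h]
          _ = _ := by group
      · intro h
        calc w * (g * c * g⁻¹) = g * (g⁻¹ * w * g * c) * g⁻¹ := by group
          _ = g * (c * (g⁻¹ * w * g)) * g⁻¹ := by rw [h]
          _ = _ := by group
    rw [Subgroup.mem_map_equiv, mem_inf, mem_inf, mem_centralizer_singleton_iff, mem_centralizer_singleton_iff,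
      mem_centralizer_singleton_iff, mem_centralizer_singleton_iff, MulAut.conj_symm_apply, hc, hc]
  rw [h, Subgroup.card_map_of_injective (MulAut.conj g).injective]

/-- the centralizer of an element of order 19 in an extension `2·E:2` -/
theorem card_dvd_aux {X E : Type*} [Group X] [Finite X] [Group E] {t x : X} {X₀ : Subgroup X} {σ : ↥X₀ →* E}
    (H : BabyComp.Sec.Data t σ) (hc : Nat.card (centralizer ({t} : Set X)) = 4 * Nat.card E)
    (hx : orderOf x = 19) (hxt : x * t = t * x)
    (hE : ∀ e : E, orderOf e = 19 → Nat.card (centralizer ({e} : Set E)) ∣ 57) :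
    Nat.card ↥(centralizer ({t} : Set X) ⊓ centralizer ({x} : Set X) : Subgroup X) ∣ 228 := by
  classical
  have hEf : Finite E := Finite.of_surjective σ H.surj
  have hle : X₀ ≤ centralizer ({t} : Set X) := fun m hm => mem_centralizer_singleton_iff.2 (H.comm m hm)
  have hker : Nat.card σ.ker = 2 := by
    rw [Nat.card_eq_two_iff]
    refine ⟨1, ⟨⟨t, H.mem⟩, MonoidHom.mem_ker.2 ((H.ker _).2 (Or.inr rfl))⟩, ?_, ?_⟩
    · intro h
      exact H.t_ne (congrArg (fun w : σ.ker => ((w : X₀) : X)) h).symm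
    · ext w
      simp only [Set.mem_insert_iff, Set.mem_singleton_iff, Set.mem_univ, iff_true]
      rcases (H.ker w).1 (MonoidHom.mem_ker.1 w.2) with h | h
      · exact Or.inl (Subtype.ext (Subtype.ext h))
      · exact Or.inr (Subtype.ext (Subtype.ext h))
  have hX₀ : Nat.card X₀ = 2 * Nat.card E := by
    rw [← Subgroup.card_mul_index σ.ker, Subgroup.index_ker, hker, MonoidHom.range_eq_top.2 H.surj, Subgroup.card_top]
  set N : Subgroup ↥(centralizer ({t} : Set X)) := X₀.subgroupOf (centralizer ({t} : Set X)) with hN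
  have hNi : N.index = 2 := by
    have h1 := N.card_mul_index
    rw [hN, Nat.card_congr (Subgroup.subgroupOfEquivOfLe hle).toEquiv, ← hN, hX₀, hc] at h1
    have h2 : 0 < Nat.card E := Nat.card_pos
    have h3 : 2 * Nat.card E * N.index = 2 * Nat.card E * 2 := by rw [h1]; ring
    exact Nat.eq_of_mul_eq_mul_left (by positivity) h3
  have hNn : N.Normal := Subgroup.normal_of_index_eq_two hNi
  have hxC : x ∈ centralizer ({t} : Set X) := mem_centralizer_singleton_iff.2 hxt
  have hx₀ : x ∈ X₀ := by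
    have h1 : (⟨x, hxC⟩ : ↥(centralizer ({t} : Set X))) ^ 2 ∈ N := Subgroup.sq_mem_of_index_two hNi _
    have h2 : x ^ 2 ∈ X₀ := h1
    have h3 : x = (x ^ 2) ^ 10 := by
      have h4 : x ^ 19 = 1 := hx ▸ pow_orderOf_eq_one x
      calc x = x ^ 19 * x := by rw [h4, one_mul]
        _ = (x ^ 2) ^ 10 := by rw [← pow_succ, ← pow_mul]
    rw [h3]
    exact X₀.pow_mem h2 10
  have h19 : Fact (Nat.Prime 19) := ⟨by norm_num⟩
  have hx1 : orderOf (σ ⟨x, hx₀⟩) = 19 := by
    refine orderOf_eq_prime_iff.2 ⟨?_, ?_⟩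
    · have h4 : x ^ 19 = 1 := hx ▸ pow_orderOf_eq_one x
      rw [← map_pow, show (⟨x, hx₀⟩ : X₀) ^ 19 = 1 from Subtype.ext h4, map_one]
    · intro h
      rcases (H.ker _).1 h with h1 | h1
      · rw [show x = 1 from h1, orderOf_one] at hx
        omega
      · have h2 : orderOf x ∣ 2 := orderOf_dvd_of_pow_eq_one (by rw [show x = t from h1, pow_two]; exact H.t_sq)
        rw [hx] at h2
        omega
  -- `X₀ ∩ C(x)`
  have hS : Nat.card ↥(X₀ ⊓ centralizer ({x} : Set X) : Subgroup X) ∣ 114 := by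
    set S : Subgroup X₀ := (centralizer ({x} : Set X)).subgroupOf X₀ with hSdef
    have h1 : Nat.card ↥(X₀ ⊓ centralizer ({x} : Set X) : Subgroup X) = Nat.card S := by
      rw [inf_comm, ← Subgroup.subgroupOf_map_subtype, Subgroup.card_map_of_injective (Subgroup.subtype_injective _)]
    have h2 : Nat.card S = Nat.card (σ.comp S.subtype).ker * Nat.card (σ.comp S.subtype).range := by
      rw [← Subgroup.card_mul_index (σ.comp S.subtype).ker, Subgroup.index_ker]
    have h3 : Nat.card (σ.comp S.subtype).ker ∣ 2 := by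
      rw [← hker, ← MonoidHom.comap_ker]
      exact Subgroup.card_comap_dvd_of_injective _ _ (Subgroup.subtype_injective _)
    have h4 : Nat.card (σ.comp S.subtype).range ∣ 57 := by
      refine dvd_trans (Subgroup.card_dvd_of_le ?_) (hE _ hx1)
      rintro _ ⟨s, rfl⟩
      rw [mem_centralizer_singleton_iff]
      show σ s * σ _ = σ _ * σ s
      rw [← map_mul, ← map_mul]
      congr 1
      exact Subtype.ext (mem_centralizer_singleton_iff.1 s.2)
    rw [h1, h2]
    exact (Nat.mul_dvd_mul h3 h4).trans (by norm_num)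
  -- the index
  set D : Subgroup ↥(centralizer ({t} : Set X)) := (centralizer ({x} : Set X)).subgroupOf (centralizer ({t} : Set X)) with hD
  have h1 : Nat.card ↥(centralizer ({t} : Set X) ⊓ centralizer ({x} : Set X) : Subgroup X) = Nat.card D := by
    rw [inf_comm, ← Subgroup.subgroupOf_map_subtype, Subgroup.card_map_of_injective (Subgroup.subtype_injective _)]
  have h2 : Nat.card (N.subgroupOf D) ∣ 114 := by
    have h3 : Nat.card (N.subgroupOf D) = Nat.card ↥(X₀ ⊓ centralizer ({x} : Set X) : Subgroup X) := by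
      have e1 : Nat.card (N.subgroupOf D) = Nat.card (N ⊓ D : Subgroup _) := by
        rw [← Subgroup.subgroupOf_map_subtype, Subgroup.card_map_of_injective (Subgroup.subtype_injective _)]
      have e2 : (N ⊓ D : Subgroup ↥(centralizer ({t} : Set X))) =
          (X₀ ⊓ centralizer ({x} : Set X)).subgroupOf (centralizer ({t} : Set X)) := rfl
      rw [e1, e2]
      exact Nat.card_congr (Subgroup.subgroupOfEquivOfLe (inf_le_left.trans hle)).toEquiv
    rw [h3]
    exact hS
  have h3 : (N.subgroupOf D).index ∣ 2 := by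
    rw [← hNi]
    exact Subgroup.relIndex_dvd_index_of_normal N D
  rw [h1, ← (N.subgroupOf D).card_mul_index]
  exact (Nat.mul_dvd_mul h2 h3).trans (by norm_num)

/-- **`|C(z) ∩ C(x)|` divides 228**, `z` a transposition, `x` of order 19 -/
theorem card_dvd {x z : Spor.BabyMonster} (hz : IsConj t1 z) (hx : orderOf x = 19) (hxz : x * z = z * x) :
    Nat.card ↥(centralizer ({z} : Set Spor.BabyMonster) ⊓ centralizer ({x} : Set Spor.BabyMonster) :
      Subgroup Spor.BabyMonster) ∣ 228 := by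
  have hfin := CTwoTab.BInst.finite_B
  obtain ⟨K, _, _, hK, t, X₀, σ, H, ht, hc⟩ := CTwoTab.BInst.exists_sec
  obtain ⟨g, rfl⟩ := isConj_iff.1 (ht.trans hz)
  have e1 : x = g * (g⁻¹ * x * g) * g⁻¹ := by group
  rw [e1, card_inf_conj]
  refine card_dvd_aux H ?_ ?_ ?_ ?_
  · rw [hc, H648.Loc.card_e6 K hK]
  · rw [orderOf_conj' g x, hx]
  · calc g⁻¹ * x * g * t = g⁻¹ * (x * (g * t * g⁻¹)) * g := by group
      _ = g⁻¹ * (g * t * g⁻¹ * x) * g := by rw [hxz]
      _ = _ := by group
  · intro e he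
    have hod : H378.ExcAdj.od 2 19 = 18 := by
      show orderOf ((2 : ℕ) : ZMod 19) = 18
      rw [orderOf_eq_iff (by norm_num)]
      decide
    have h5 := (H378.TwRows.cent_2E6 (K := K) (q := 2) Nat.prime_two.isPrimePow (by rw [hK]; norm_num)
      (by norm_num) he hod).2
    rw [H378.TwRows.eval_cyc18] at h5
    norm_num at h5
    exact h5

/-- **`16` does not divide `|C(x)|`**, `x` of order 19 -/
theorem not_dvd_cent {x : Spor.BabyMonster} (hx : orderOf x = 19) :
    ¬ 16 ∣ Nat.card ↥(centralizer ({x} : Set Spor.BabyMonster)) := by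
  have hfin := CTwoTab.BInst.finite_B
  refine cent_bound (t := t1) (fun z hz hxz h8 => ?_) (fun u hu hxu => cls hx hu hxu)
  have h1 := h8.trans (card_dvd hz hx hxz)
  norm_num at h1

/-- **`32` does not divide `|N(⟨x⟩)|`**, `x` of order 19 -/
theorem not_dvd_norm {x : Spor.BabyMonster} (hx : orderOf x = 19) :
    ¬ 32 ∣ Nat.card (normalizer ((zpowers x : Subgroup Spor.BabyMonster) : Set Spor.BabyMonster)) := by
  have hfin := CTwoTab.BInst.finite_B
  intro h
  have h1 := h.trans (norm_dvd (by norm_num) hx)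
  refine not_dvd_cent hx ?_
  have h2 : 2 * 16 ∣ 2 * (Nat.card ↥(centralizer ({x} : Set Spor.BabyMonster)) * 9) := by
    refine h1.trans (dvd_of_eq ?_)
    norm_num
    ring
  exact Nat.Coprime.dvd_of_dvd_mul_right (by norm_num) (Nat.dvd_of_mul_dvd_mul_left (by norm_num) h2)

end Cfsg.Agent.H322.Odm
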