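import Cfsg.Agent.H217.Odm.Eng

/-!
# S4785, Baby Monster: group theoretic tools (helper322, task 3130)

* `dvd_of_nadj` : a prime `s` non-adjacent to a prime divisor of the order of the simple group at the top divides the
  order of the simple group;
* `cent_bound` : if every involution `z` commuting with `x` gives `8 ∤ |C(z) ∩ C(x)|`, or has the `d`-alternative, then
  `16 ∤ |C(x)|`;
* `norm_bound` : `|N(⟨x⟩)|` divides `|C(x)| (r - 1)`;
* `row_of_bound` : the row from the bound for the `2`-part of `|N(⟨x⟩)|`.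
-/

set_option autoImplicit false

open Subgroup

namespace Cfsg.Agent.H322.Odm

open Cfsg.Agent.OrdDiv
open Cfsg.Agent.H453.OddM
open Cfsg.Agent.H257.El
open Cfsg.Agent.H217.Odm

universe u

/-- **a prime `s` such that `R` has no element of order `s p`, `p` a divisor of `|N|`** -/
theorem dvd_of_nadj {R : Type*} [Group R] [Finite R] {r s p : ℕ} {O : Subgroup R} [O.Normal] {N : Subgroup (R ⧸ O)}
    (h : Top R r O N) (hna : ¬ ∀ a b : N, a * b = b * a) (hs : s.Prime) (hp : p.Prime) (hsp : s ≠ p)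
    (hno : ∀ z : R, orderOf z ≠ s * p) (hsR : s ∣ Nat.card R) (hsq : ¬ s ^ 2 ∣ Nat.card R) (hpN : p ∣ Nat.card N)
    (hm : ∀ b, 1 ≤ b → p ^ b ∣ Nat.card N → p ^ b % s ≠ 1) : s ∣ Nat.card N := by
  have hN := h.normal
  have hs' : Fact s.Prime := ⟨hs⟩
  have hp' : Fact p.Prime := ⟨hp⟩
  by_contra hsN
  by_cases hsO : s ∣ Nat.card O
  · obtain ⟨t, ht⟩ := exists_prime_orderOf_dvd_card' (G := N) p hpN
    obtain ⟨y, g, hy, hg, hc⟩ := h.exists_comm hs hsO hsq hna ⟨t, ht⟩
    exact hno _ (orderOf_mul_of_comm hs hp hsp hy hg hc.symm)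
  · have h2 : s ∣ Nat.card (R ⧸ O) := by
      rw [← card_quot_mul O] at hsR
      exact ((hs.dvd_mul).1 hsR).resolve_right hsO
    obtain ⟨P⟩ : Nonempty (Sylow p N) := inferInstance
    obtain ⟨y, hy, hyP⟩ := exists_normalizer (r := s) (s := p) h2 N hsN P
    have hPc : Nat.card ((P : Subgroup N).map N.subtype) = p ^ (Nat.card N).factorization p := by
      rw [Subgroup.card_map_of_injective N.subtype_injective]
      exact P.card_eq_multiplicity
    have ha : 1 ≤ (Nat.card N).factorization p := by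
      have := (hp.pow_dvd_iff_le_factorization (k := 1) (n := Nat.card N) Nat.card_pos.ne').1 (by rwa [pow_one])
      exact this
    obtain ⟨w, -, hw, hyw⟩ := exists_comm_of_normalizer hs hp hy (P.isPGroup'.map _) hyP
      (by rw [hPc]; exact hm _ ha (Nat.ordProj_dvd _ _))
    exact Top.noQuot O hno _ (orderOf_mul_of_comm hs hp hsp hy hw hyw)

/-- index at most two -/
theorem index_le_two {G : Type*} [Group G] [Finite G] (S : Subgroup G) (h : ∀ a b : G, a ∉ S → b ∉ S → b⁻¹ * a ∈ S) :
    S.index ≤ 2 := by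
  classical
  rw [Subgroup.index_eq_card]
  have hf : Function.Injective (fun w : G ⧸ S => decide (w = (QuotientGroup.mk (1 : G) : G ⧸ S))) := by
    intro a b hab
    obtain ⟨a, rfl⟩ := QuotientGroup.mk_surjective a
    obtain ⟨b, rfl⟩ := QuotientGroup.mk_surjective b
    have hmem : ∀ c : G, (QuotientGroup.mk c : G ⧸ S) = QuotientGroup.mk 1 ↔ c ∈ S := by
      intro c
      rw [eq_comm, QuotientGroup.eq, inv_one, one_mul]
    simp only [hmem, decide_eq_decide] at hab
    by_cases ha : a ∈ S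
    · exact ((hmem a).2 ha).trans ((hmem b).2 (hab.1 ha)).symm
    · have hb : b ∉ S := fun hb => ha (hab.2 hb)
      exact (QuotientGroup.eq.2 (h a b ha hb)).symm
  have h1 := Nat.card_le_card_of_injective _ hf
  have h2 : Nat.card Bool = 2 := by simp
  omega

/-- the bound for the `2`-part of a centralizer -/
theorem cent_bound {G : Type*} [Group G] [Finite G] {x t : G}
    (hc : ∀ z : G, IsConj t z → x * z = z * x → ¬ 8 ∣ Nat.card ↥(centralizer ({z} : Set G) ⊓ centralizer ({x} : Set G) : Subgroup G))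
    (hcl : ∀ u : G, orderOf u = 2 → x * u = u * x → IsConj t u ∨ ∃ d, IsConj t d ∧ x * d = d * x ∧
      ∀ g, g * u = u * g → g * d * g⁻¹ = d ∨ g * d * g⁻¹ = u * d) :
    ¬ 16 ∣ Nat.card ↥(centralizer ({x} : Set G)) := by
  intro h16
  have h2' : Fact (Nat.Prime 2) := ⟨Nat.prime_two⟩
  obtain ⟨T₀, hT₀⟩ := Sylow.exists_subgroup_card_pow_prime (G := ↥(centralizer ({x} : Set G))) 2 (n := 4)
    (by rw [show (2 : ℕ) ^ 4 = 16 by norm_num]; exact h16)
  set T : Subgroup G := T₀.map (centralizer ({x} : Set G)).subtype with hT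
  have hTc : Nat.card T = 2 ^ 4 := by
    rw [hT, Subgroup.card_map_of_injective (Subgroup.subtype_injective _), hT₀]
  have hTx : T ≤ centralizer ({x} : Set G) := Subgroup.map_subtype_le T₀
  have hTp : IsPGroup 2 T := IsPGroup.of_card hTc
  have hTn : Nontrivial T := by
    rw [← Finite.one_lt_card_iff_nontrivial, hTc]
    norm_num
  have hZn := hTp.center_nontrivial
  have hZ2 : 2 ∣ Nat.card (center T) := by
    obtain ⟨k, hk⟩ := IsPGroup.iff_card.1 (hTp.to_subgroup (center T))
    have h1 := Finite.one_lt_card_iff_nontrivial.2 hZn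
    rw [hk] at h1 ⊢
    have hk0 : k ≠ 0 := by rintro rfl; omega
    exact dvd_pow_self 2 hk0
  obtain ⟨z, hz⟩ := exists_prime_orderOf_dvd_card' (G := center T) 2 hZ2
  have hz2 : orderOf ((z : T) : G) = 2 := by rw [Subgroup.orderOf_coe, Subgroup.orderOf_coe, hz]
  have hzT : ∀ g ∈ T, g * ((z : T) : G) = ((z : T) : G) * g := fun g hg =>
    congrArg Subtype.val (mem_center_iff.1 z.2 ⟨g, hg⟩)
  have hxz : x * ((z : T) : G) = ((z : T) : G) * x :=
    (mem_centralizer_singleton_iff.1 (hTx (z : T).2)).symm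
  rcases hcl _ hz2 hxz with h1 | ⟨d, hd, hxd, hg⟩
  · refine hc _ h1 hxz ?_
    have hle : T ≤ centralizer ({((z : T) : G)} : Set G) ⊓ centralizer ({x} : Set G) := by
      refine le_inf (fun g hg => mem_centralizer_singleton_iff.2 (hzT g hg)) hTx
    exact (show 8 ∣ Nat.card T by rw [hTc]; norm_num).trans (Subgroup.card_dvd_of_le hle)
  · refine hc _ hd hxd ?_
    set S : Subgroup T := (centralizer ({d} : Set G)).subgroupOf T with hS
    have hi : S.index ≤ 2 := by
      refine index_le_two S fun a b ha hb => ?_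
      have hmem : ∀ c : T, c ∈ S ↔ (c : G) * d * (c : G)⁻¹ = d := by
        intro c
        rw [hS, mem_subgroupOf, mem_centralizer_singleton_iff, mul_inv_eq_iff_eq_mul]
      rw [hmem] at ha hb ⊢
      have ha' := (hg a (hzT a a.2)).resolve_left ha
      have hb' := (hg b (hzT b b.2)).resolve_left hb
      calc ((b⁻¹ * a : T) : G) * d * ((b⁻¹ * a : T) : G)⁻¹ = (b : G)⁻¹ * ((a : G) * d * (a : G)⁻¹) * b := by
            push_cast; group
        _ = (b : G)⁻¹ * ((b : G) * d * (b : G)⁻¹) * b := by rw [ha', hb']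
        _ = d := by group
    have h8 : 8 ∣ Nat.card S := by
      have h3 := S.card_mul_index
      rw [hTc] at h3
      have h4 : S.index ≠ 0 := Subgroup.index_ne_zero_of_finite
      have h5 : S.index = 1 ∨ S.index = 2 := by omega
      rcases h5 with h5 | h5 <;> rw [h5] at h3 <;> omega
    have hle : S.map T.subtype ≤ centralizer ({d} : Set G) ⊓ centralizer ({x} : Set G) := by
      rintro _ ⟨s, hs, rfl⟩
      exact ⟨hs, hTx s.2⟩
    refine dvd_trans ?_ (Subgroup.card_dvd_of_le hle)
    rwa [Subgroup.card_map_of_injective T.subtype_injective]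

/-- `|N(⟨x⟩)|` divides `|C(x)| (r - 1)` -/
theorem norm_dvd {G : Type*} [Group G] [Finite G] {r : ℕ} (hr : r.Prime) {x : G} (hx : orderOf x = r) :
    Nat.card (normalizer ((zpowers x : Subgroup G) : Set G)) ∣ Nat.card (centralizer ({x} : Set G)) * (r - 1) := by
  have hr' : Fact r.Prime := ⟨hr⟩
  set P : Subgroup G := zpowers x with hP
  have hPc : Nat.card P = r := by rw [hP, Nat.card_zpowers, hx]
  have hCP : centralizer ({x} : Set G) = centralizer (P : Set G) := by
    rw [hP, zpowers_eq_closure, centralizer_closure]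
  let φ : normalizer (P : Set G) →* MulAut P := P.normalizerMonoidHom
  have hker : Nat.card φ.ker = Nat.card (centralizer ({x} : Set G)) := by
    rw [show φ.ker = _ from P.normalizerMonoidHom_ker, hCP]
    exact Nat.card_congr (Subgroup.subgroupOfEquivOfLe (centralizer_le_normalizer _)).toEquiv
  have hcard : Nat.card (normalizer (P : Set G)) = Nat.card φ.ker * Nat.card φ.range := by
    rw [← Subgroup.card_mul_index φ.ker, Subgroup.index_ker]
  have hcyc : IsCyclic P := isCyclic_of_prime_card hPc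
  have haut : Nat.card (MulAut P) = r - 1 := by
    rw [IsCyclic.card_mulAut, hPc, Nat.totient_prime hr]
  rw [hcard, hker]
  exact Nat.mul_dvd_mul_left _ (by rw [← haut]; exact Subgroup.card_subgroup_dvd_card _)

/-- the orders of the normalizers of the subgroups of order `r`, `r ∥ |G|` -/
theorem card_norm_eq {G : Type*} [Group G] [Finite G] {r : ℕ} (hr : r.Prime) (h2 : ¬ r ^ 2 ∣ Nat.card G) {x y : G}
    (hx : orderOf x = r) (hy : orderOf y = r) :
    Nat.card (normalizer ((zpowers y : Subgroup G) : Set G)) =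
      Nat.card (normalizer ((zpowers x : Subgroup G) : Set G)) := by
  have hr' : Fact r.Prime := ⟨hr⟩
  obtain ⟨g, hg⟩ := conj_of_cyclic (fun S => cyclic_of_sq h2 S) hx hy
  have h3 : zpowers (g * y * g⁻¹) = zpowers x := by
    apply Subgroup.eq_of_le_of_card_ge
    · rw [zpowers_le]; exact hg
    · rw [Nat.card_zpowers, Nat.card_zpowers, hx]
      have : orderOf (g * y * g⁻¹) = r := by
        rw [← hy]
        exact orderOf_injective (MulAut.conj g).toMonoidHom (MulAut.conj g).injective y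
      rw [this]
  rw [← h3]
  have h4 : normalizer ((zpowers (g * y * g⁻¹) : Subgroup G) : Set G) =
      (normalizer ((zpowers y : Subgroup G) : Set G)).map (MulAut.conj g).toMonoidHom := by
    ext w
    rw [Subgroup.mem_map_equiv, mem_normalizer_iff, mem_normalizer_iff, MulAut.conj_symm_apply]
    have hz : ∀ v : G, v ∈ zpowers (g * y * g⁻¹) ↔ g⁻¹ * v * g ∈ zpowers y := by
      intro v
      rw [mem_zpowers_iff, mem_zpowers_iff]
      constructor
      · rintro ⟨j, rfl⟩
        refine ⟨j, ?_⟩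
        rw [conj_zpow]; group
      · rintro ⟨j, hj⟩
        refine ⟨j, ?_⟩
        rw [conj_zpow, hj]; group
    constructor
    · intro hh v
      have h5 := hh (g * v * g⁻¹)
      rw [hz, hz] at h5
      rw [show g⁻¹ * (g * v * g⁻¹) * g = v by group] at h5
      rw [show g⁻¹ * w * g * v * (g⁻¹ * w * g)⁻¹ = g⁻¹ * (w * (g * v * g⁻¹) * w⁻¹) * g by group]
      exact h5
    · intro hh v
      rw [hz, hz]
      have h5 := hh (g⁻¹ * v * g)
      rw [show g⁻¹ * (w * v * w⁻¹) * g = g⁻¹ * w * g * (g⁻¹ * v * g) * (g⁻¹ * w * g)⁻¹ by group]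
      exact h5
  rw [h4, Subgroup.card_map_of_injective (MulAut.conj g).injective]

/-- the check for the survivors -/
def chkS (n : ℕ) (l : List (ℕ × ℕ)) (r k : ℕ) (ss : List ℕ) : Bool :=
  (surv n l r ss).all fun g => Nat.blt (ordN g) (2 ^ 300) && (List.range (k + 1)).all fun j =>
    Nat.blt (vv n) (vv (ordN g) + j) || 2 ^ (vv n - (vv (ordN g) + j)) % r != 1

/-- **the row**: `x₀` real of order `r`, `2 ^ (k + 1)` does not divide `|N(⟨x₀⟩)|`; `s₁` non-adjacent to `r` and to
`s₂`. -/
theorem row_of_bound {n : ℕ} {l : List (ℕ × ℕ)} {r s₁ s₂ k : ℕ} {T : Type u} [Group T] [Finite T]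
    (tab : OrderTable.{u}) (known : Known.{u}) (hn : Nat.card T = n) (hn2 : n < 2 ^ 300) (hr : r.Prime) (hr2 : r ≠ 2)
    (hreal : RealP T r)
    (hk : ∀ x : T, orderOf x = r → ¬ 2 ^ (k + 1) ∣ Nat.card (normalizer ((zpowers x : Subgroup T) : Set T)))
    (h1 : s₁.Prime) (h1r : RealP T s₁) (hno1 : ∀ z : T, orderOf z ≠ r * s₁)
    (h2 : s₂.Prime) (h2r : RealP T s₂) (h12 : s₂ ≠ s₁) (hno2 : ∀ z : T, orderOf z ≠ s₂ * s₁) (h2n : ¬ s₂ ^ 2 ∣ n)
    (hm : ∀ b, 1 ≤ b → s₁ ^ b ∣ n → s₁ ^ b % s₂ ≠ 1)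
    (hchk : chkBase n l r [s₁] = true) (hS : chkS n l r k [s₁, s₂] = true) : Row T := by
  intro R hR
  by_contra hne
  obtain ⟨S, -, hok⟩ := sitO_of tab known hn hr hreal hchk hR hne
  obtain ⟨O, hO, N, h⟩ := S.exists_top
  have hok1 := hok s₁ (by simp)
  have hd1 : s₁ ∣ Nat.card N := S.dvd_simple h h1 h1r hno1 hok1
  have hrs : r ≠ s₁ := by
    unfold okPair at hok1
    rw [Bool.and_eq_true, Bool.and_eq_true, Bool.and_eq_true] at hok1
    simpa using hok1.1.1.1
  have hna : ¬ ∀ a b : N, a * b = b * a := SitO.not_comm_of_dvd h h1 hrs hd1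
  have hNn : Nat.card N ∣ n := by
    refine dvd_trans ?_ S.dvd_n
    refine (Subgroup.card_subgroup_dvd_card N).trans ?_
    rw [← card_quot_mul O]
    exact dvd_mul_right _ _
  have hd2 : s₂ ∣ Nat.card N :=
    dvd_of_nadj h hna h2 h1 h12 (SitO.noR hno2) (hR.cov.dvd h2r) (fun h3 => h2n (h3.trans S.dvd_n)) hd1
      fun b hb hb' => hm b hb (hb'.trans hNn)
  obtain ⟨g, hg, -, hgc⟩ := S.exists_surv h hna [s₁, s₂] (by
    intro s hs
    simp only [List.mem_cons, List.not_mem_nil, or_false] at hs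
    rcases hs with rfl | rfl
    · exact hd1
    · exact hd2)
  -- the normalizers
  obtain ⟨x₀, hx₀, -⟩ := hreal
  have hrd : r ∣ Nat.card (normalizer ((zpowers x₀ : Subgroup T) : Set T)) := by
    rw [← hx₀]
    have h3 : x₀ ∈ normalizer ((zpowers x₀ : Subgroup T) : Set T) := le_normalizer (mem_zpowers x₀)
    exact Subgroup.orderOf_dvd_natCard _ h3
  obtain ⟨nu, hnu⟩ := hrd
  have hsq : ¬ r ^ 2 ∣ Nat.card T := by rw [hn]; exact S.sq
  have hnu' : ∀ x : T, orderOf x = r → Nat.card (normalizer ((zpowers x : Subgroup T) : Set T)) = r * nu := by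
    intro x hx
    rw [card_norm_eq hr hsq hx₀ hx, hnu]
  have hnu0 : nu ≠ 0 := by
    rintro rfl
    rw [mul_zero] at hnu
    exact Nat.card_pos.ne' hnu
  obtain ⟨m, hm1, -, hm3, hm4⟩ := S.two_part h hr2 hnu0 hnu'
  have hm0 : m ≠ 0 := by rintro rfl; exact hnu0 (Nat.eq_zero_of_zero_dvd hm1)
  have e1 : nu.factorization 2 ≤ k := by
    by_contra hc
    refine hk x₀ hx₀ ?_
    rw [hnu]
    exact ((Nat.prime_two.pow_dvd_iff_le_factorization hnu0).2 (by omega)).mul_left _
  have e2 : m.factorization 2 ≤ nu.factorization 2 := (Nat.factorization_le_iff_dvd hm0 hnu0).2 hm1 2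
  unfold chkS at hS
  rw [List.all_eq_true] at hS
  have h7 := hS g hg
  rw [Bool.and_eq_true, List.all_eq_true] at h7
  obtain ⟨h8, h9⟩ := h7
  have hg0 : ordN g ≠ 0 := by rw [← hgc]; exact Nat.card_pos.ne'
  have hg2 : ordN g < 2 ^ 300 := (by simpa using h8)
  have hn0 : n ≠ 0 := by rw [← hn]; exact Nat.card_pos.ne'
  have h10 := h9 (nu.factorization 2 - m.factorization 2) (List.mem_range.2 (by omega))
  rw [vv_eq hn0 hn2, vv_eq hg0 hg2] at h10
  rw [hgc] at hm3 hm4
  rw [Bool.or_eq_true] at h10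
  rcases h10 with h11 | h11
  · have h12 := (by simpa using h11)
    omega
  · rw [show n.factorization 2 - ((ordN g).factorization 2 + (nu.factorization 2 - m.factorization 2)) =
      n.factorization 2 + m.factorization 2 - (nu.factorization 2 + (ordN g).factorization 2) by omega, hm4] at h11
    exact absurd h11 (by decide)

end Cfsg.Agent.H322.Odm
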